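import Mathlib
import Cfsg.Agent.Lib.MultC.Sz8.Base

/-! multiplier certificate for the prime 2 (generated) -/

set_option autoImplicit false
set_option maxRecDepth 100000
set_option Elab.async false

namespace CfsgLib.MultC.Sz8.P2

open CfsgLib.Comput CfsgLib.MultC

noncomputable def x0 : Net :=
  Net.cons 1 0x15511
  (Net.cons 2 0x2200220010020000
  (Net.cons 4 0x202000001000200
  (Net.cons 8 0x2000200090000
  (Net.cons 16 0x200000001
  (Net.cons 32 0xfffffffc
  (Net.cons 64 1
  (Net.cons 16 0x80100000001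
  (Net.cons 8 0x9002000010001
  (Net.cons 4 0x500070d01010c0c
  (Net.cons 2 0x3202310011001100
  (Net.cons 1 0x1551155555555
  (Net.nil))))))))))))

noncomputable def x1 : Net :=
  Net.cons 1 0x111110111115555
  (Net.cons 2 0x11111111
  (Net.cons 4 0x200010000010001
  (Net.cons 8 0x100010001
  (Net.cons 32 0xfffffffc
  (Net.cons 64 1
  (Net.cons 16 0xfffc0000fffd
  (Net.cons 8 0x2000200020020
  (Net.cons 4 0xc020c02020c020d
  (Net.cons 2 0x2222222200000000
  (Net.cons 1 0x444444540111
  (Net.nil)))))))))))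

noncomputable def x2 : Net :=
  Net.cons 1 0x1000004444000001
  (Net.cons 2 0x101011133331100
  (Net.cons 4 0x101000102000000
  (Net.cons 8 0x4000400040000
  (Net.cons 32 0x401
  (Net.cons 64 1
  (Net.cons 32 1
  (Net.cons 16 0xfbfe0000fbfd
  (Net.cons 8 0xfe00fe00fd00fd
  (Net.cons 4 0x40a0e0300090904
  (Net.cons 2 0x2232100100110000
  (Net.cons 1 0x4400005401555511
  (Net.nil))))))))))))

noncomputable def x3 : Net :=
  Net.cons 1 0x1010101010101010
  (Net.cons 4 0x100010001000100
  (Net.cons 8 0x1000000010000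
  (Net.cons 16 0x100000000
  (Net.cons 32 0x10001
  (Net.cons 64 1
  (Net.cons 32 1
  (Net.cons 16 0x10100000100
  (Net.cons 8 0x11001000110010
  (Net.cons 4 0x302030203020302
  (Net.cons 1 0x5454545454545454
  (Net.nil)))))))))))

noncomputable def x4 : Net :=
  Net.cons 2 0x1010101010101010
  (Net.cons 4 0x100010001000100
  (Net.cons 8 0x1000000010000
  (Net.cons 16 0x100000000
  (Net.cons 32 0x10001
  (Net.cons 64 1
  (Net.cons 32 1
  (Net.cons 16 0x10100000100
  (Net.cons 8 0x11001000110010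
  (Net.cons 4 0x504050405040504
  (Net.cons 2 0x3232323232323232
  (Net.nil)))))))))))

noncomputable def x5 : Net :=
  Net.cons 1 0x100010001000100
  (Net.cons 8 0x1000000010000
  (Net.cons 16 0x100000000
  (Net.cons 32 0x10001
  (Net.cons 64 1
  (Net.cons 32 1
  (Net.cons 16 0x10100000100
  (Net.cons 8 0x3000200030002
  (Net.cons 4 0xc0c0c0c0c0c0c0c
  (Net.cons 1 0x5554555455545554
  (Net.nil))))))))))

noncomputable def x6 : Net :=
  Net.cons 1 0x404040404055004
  (Net.cons 2 0x3030303030121030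
  (Net.cons 4 0x90100
  (Net.cons 8 0x1000000001
  (Net.cons 16 1
  (Net.cons 32 0x1ffee00
  (Net.cons 64 1
  (Net.cons 32 1
  (Net.cons 16 0xfe000000ee00
  (Net.cons 8 0x7e00ee00110011
  (Net.cons 4 0xb05090909090908
  (Net.cons 2 0x3200101010101010
  (Net.cons 1 0x5104505050505050
  (Net.nil)))))))))))))

noncomputable def X : List Net := [x0, x1, x2, x3, x4, x5, x6]

def D : Dat := ⟨1, 6, 1,
  0x82082080041041000820840c930688,
  6, 0x810204081,
  0xe18a0f8ee,
  0, 4⟩

def R0 : List (ℕ × ℕ × ℕ × List ℕ) := [(1, 0, 0, [97]),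
  (4, 2, 2, [193]),
  (2, 1, 1, [177, 257]),
  (8, 3, 1, [114]),
  (8, 3, 2, [130]),
  (16, 4, 1, [178]),
  (32, 5, 0, [242]),
  (32, 5, 2, [274]),
  (8, 2, 2, [130, 209]),
  (32, 0, 0, [242, 291]),
  (32, 2, 2, [274, 307]),
  (4, 2, 0, [50, 161, 275, 323]),
  (4, 0, 0, [50, 129, 241, 321]),
  (4, 2, 1, [66, 131, 147, 177, 210]),
  (2, 0, 0, [18, 97, 113, 145, 161, 209, 225]),
  (4, 1, 1, [66, 113, 145, 193, 210, 273, 290]),
  (2, 1, 0, [18, 115, 147, 161, 179, 211, 227, 241, 290, 306]),
  (4, 1, 0, [97, 129, 193, 209, 259, 307])]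
def R1 : List (ℕ × List ℕ × List ℕ × List ℕ) := [(0, [4, 4], [], [145, 209, 402]),
  (0, [3, 3], [], [289, 321, 386]),
  (0, [5, 5], [], [145, 209, 225, 289, 305, 418]),
  (0, [1, 1], [5, 4], [1, 17, 113, 177, 211, 241, 257, 305, 321, 354, 403, 419]),
  (0, [0, 0], [3], [3, 33, 65, 81, 113, 145, 194, 210, 225, 257, 273, 290, 321, 338, 387]),
  (0, [2, 2], [4], [1, 17, 33, 49, 65, 97, 114, 146, 177, 194, 225, 257, 273, 291, 305, 321, 370, 403]),
  (0, [0, 1], [4, 3, 1, 0], [18, 51, 67, 99, 131, 146, 179, 195, 211, 227, 243, 257, 275, 289, 306, 323, 387, 403]),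
  (0, [1, 2], [3, 2, 1], [49, 97, 113, 194, 211, 243, 273, 291, 387]),
  (0, [0, 2], [5, 2, 0], [19, 50, 99, 113, 130, 147, 179, 209, 227, 243, 291, 306, 323, 419])]

noncomputable def A : LA := ⟨12, [[257, 353, 387], [273, 355, 369, 385, 403], [257, 337, 354, 371, 385], [257, 273, 401], [257, 403, 417], [257, 385]],
  [[273], [257, 273]], [2, 2],
  Dat.sps R0 ++ (Dat.sps R1),
  [0x32000330022020002210203222103,
  0x12000011211311220310103110120,
  0x20330121200301000320102002230,
  0x3000000231311223120302100102,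
  0x21100033300103001220202002202,
  0x31013231112123003310103230231,
  768,
  0x210301003210203030321,
  0x30000001010003001133,
  0x300000000010003000020,
  0x2031212313010003133001,
  0x30013,
  0x3000,
  0x30001000000,
  0x30100000003300100000020,
  0x1212222200200132313,
  49,
  3,
  0x100300000000,
  0x1000000000002,
  0x3000000000300100000022],
  [0x30000000, 0x30300200]⟩

def lv : LB := [(1, 1, [6, 5, 4, 3, 2, 1])]

theorem r0 : D.consAll 12 R0 = true := by decide +kernel
theorem r1 : D.fusAll 12 R1 = true := by decide +kernel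
theorem xw : wordsOK 65 7 U X [[0x607080a], [0x60707070a0a0a], [0x60505060909], [0x505060709], [0x5060607], [0x606], [0xa0a]] = true := by decide +kernel
theorem c1_0 : allRg (D.rowChk (stepT 65 7 X) (idTab 65 7)) 0 6 = true := by decide +kernel
theorem c2_0 : allRg (D.fusChk (stepT 65 7 X) (idTab 65 7)) 0 6 = true := by decide +kernel
theorem c3 : lbOK 65 X 6 (2 ^ 6) lv = true := by decide +kernel
theorem c4 : D.basicOK A = true := by decide +kernel
theorem c5_0 : allRg (D.rowOK A) 0 6 = true := by decide +kernel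

theorem pb {G : Type*} {Ω : Type*} [Group G] [MulAction G Ω] {pt : ℕ → Ω} (M : PModel G 65 pt)
    (h : AllReal G 65 pt V0) (hG : Nat.card G = 29120) : PBound G 2 [2, 2] :=
  M.pBound (W := X) (k := 7) (D := D) (A := A) ((realU h).words (by norm_num) xw) (by norm_num) (by norm_num) rfl 1 rfl
    (by decide) rfl (by decide) (allRg_zero c1_0) (allRg_zero c2_0) c3 hG
    (by decide +kernel) ((D.allGood_cons 12 R0 (by norm_num) r0).append (D.allGood_fus 12 R1 (by norm_num) r1)) c4 (allRg_zero c5_0)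

end CfsgLib.MultC.Sz8.P2
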